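import Groth.Agent.Lib.ArInter.Geometric

/-!
# The kernel of restriction of local rings to the closed fibre
-/

set_option autoImplicit false
set_option linter.style.haveILetI false
set_option backward.isDefEq.respectTransparency false

universe u

open CategoryTheory CategoryTheory.Limits AlgebraicGeometry TopologicalSpace Opposite

namespace Groth.Agent.ArInter

variable {R : Type u} [CommRing R] [IsDomain R] [IsDiscreteValuationRing R]
  {X : Over (Spec (CommRingCat.of R))}

theorem ker_stalkMap_fst_fibre {π : R} (hπ : Irreducible π)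
    (y : ↥(pullback X.hom (Spec.map (CommRingCat.ofHom (IsLocalRing.residue R))))) :
    RingHom.ker ((pullback.fst X.hom (Spec.map (CommRingCat.ofHom (IsLocalRing.residue R)))).stalkMap y).hom =
      Ideal.span {Models.stalkHom R X (pullback.fst X.hom (Spec.map (CommRingCat.ofHom (IsLocalRing.residue R))) y) π} := by
  haveI : IsClosedImmersion (Spec.map (CommRingCat.ofHom (IsLocalRing.residue R))) :=
    IsClosedImmersion.spec_of_surjective _ IsLocalRing.residue_surjective
  let i := pullback.fst X.hom (Spec.map (CommRingCat.ofHom (IsLocalRing.residue R)))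
  let K := i.ker
  have hfac : i.toImage ≫ K.subschemeι = i := i.toImage_imageι
  let d := i.toImage y
  obtain ⟨U, hU, hx⟩ := DivDesc12.exists_affine (K.subschemeι d)
  have hker : RingHom.ker (K.subschemeι.stalkMap d).hom =
      Ideal.span {Models.stalkHom R X (K.subschemeι d) π} := by
    rw [FormalH7.ker_stalkMap_subscheme K ⟨U, hU⟩ d hx, ← DivDesc12.stI_eq K ⟨U, hU⟩ hx,
      (congrArg (fun J => DivDesc12.stI J (K.subschemeι d)) (ker_fst_fibre hπ) :
        DivDesc12.stI K (K.subschemeι d) = DivDesc12.stI (fibreIdeal X π) (K.subschemeι d)), stI_fibreIdeal]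
  have key : ∀ (w : pullback X.hom (Spec.map (CommRingCat.ofHom (IsLocalRing.residue R))) ⟶ X.left),
      i.toImage ≫ K.subschemeι = w →
      RingHom.ker (w.stalkMap y).hom = Ideal.span {Models.stalkHom R X (w y) π} := by
    rintro w rfl
    have hinj : Function.Injective (i.toImage.stalkMap y).hom :=
      (ConcreteCategory.bijective_of_isIso (i.toImage.stalkMap y)).1
    rw [Scheme.Hom.stalkMap_comp, CommRingCat.hom_comp, RingHom.ker_comp_of_injective _ hinj]
    exact hker
  exact key _ hfac

theorem stalkHom_eq_germ (U : X.left.Opens) (x : X.left) (hx : x ∈ U) (π : R) :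
    Models.stalkHom R X x π = X.left.presheaf.germ U x hx
      ((X.hom.appLE ⊤ U le_top) ((Scheme.ΓSpecIso (CommRingCat.of R)).inv π)) := by
  show X.left.presheaf.germ ⊤ x trivial (Coh.toGlobal X.hom π) = _
  rw [Scheme.Hom.appLE, CommRingCat.comp_apply, TopCat.Presheaf.germ_res_apply]
  rfl

end Groth.Agent.ArInter
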