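import Groth.Prelude.Def_W4c5delpairindexchiIndex
import Groth.Agent.Lib.Zeta25.ZetaParts
import Groth.Agent.Lib.PtNorm19.Basic
import Mathlib.RingTheory.Ideal.AssociatedPrime.Finiteness

/-!
# The rank of a finite scheme mapping into a scheme lies in the index subgroup
-/

set_option autoImplicit false
set_option linter.style.haveILetI false

universe u

open CategoryTheory AlgebraicGeometry

namespace Groth.Agent.IndexMult

variable {K : Type u} [Field K] {X : Scheme.{u}} (f : X ⟶ Spec (CommRingCat.of K)) [LocallyOfFiniteType f]

/-- A point of `X` with values in a finite field extension, injective on residue fields, gives a member. -/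
theorem finrank_quotient_mem {C : Type u} [CommRing C] [Algebra K C] [Module.Finite K C]
    (j : Spec (CommRingCat.of C) ⟶ X) [SurjectiveOnStalks j]
    (hj : j ≫ f = Spec.map (CommRingCat.ofHom (algebraMap K C))) (m : Ideal C) [m.IsMaximal] :
    (Module.finrank K (C ⧸ m) : ℤ) ∈ Curv2.indexSubgroup f := by
  letI : Field (C ⧸ m) := Ideal.Quotient.field m
  let i : Spec (CommRingCat.of (C ⧸ m)) ⟶ Spec (CommRingCat.of C) :=
    Spec.map (CommRingCat.ofHom (Ideal.Quotient.mk m))
  haveI : IsClosedImmersion i := IsClosedImmersion.spec_of_surjective _ Ideal.Quotient.mk_surjective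
  haveI : SurjectiveOnStalks (i ≫ j) := inferInstance
  let y : Spec (CommRingCat.of (C ⧸ m)) := (⟨⊥, Ideal.isPrime_bot⟩ : PrimeSpectrum (C ⧸ m))
  have hcomp : (i ≫ j) ≫ f = Spec.map (CommRingCat.ofHom (algebraMap K (C ⧸ m))) := by
    rw [Category.assoc, hj, ← Spec.map_comp]
    rfl
  have hd : f.residueDegree ((i ≫ j) y) = Module.finrank K (C ⧸ m) := by
    refine ((Zeta25.residueDegree_comp f (i ≫ j) y).symm.trans ?_)
    show ((i ≫ j) ≫ f).residueDegree y = _
    rw [hcomp]
    exact PtNorm19.residueDegree_map K (C ⧸ m) y
  have hpos : Module.finrank K (C ⧸ m) ≠ 0 := Module.finrank_pos.ne'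
  obtain ⟨hcl, -⟩ := (Zeta25.closed_and_degree_iff f hpos _).mpr hd
  exact AddSubgroup.subset_closure ⟨(i ≫ j) y, hcl, congrArg (Nat.cast : ℕ → ℤ) hd⟩

/-- The rank of a finite algebra mapped into `X` is in the index subgroup. -/
theorem finrank_mem {C : Type u} [CommRing C] [Algebra K C] [Module.Finite K C]
    (j : Spec (CommRingCat.of C) ⟶ X) [SurjectiveOnStalks j]
    (hj : j ≫ f = Spec.map (CommRingCat.ofHom (algebraMap K C))) :
    (Module.finrank K C : ℤ) ∈ Curv2.indexSubgroup f := by
  haveI : IsArtinianRing C := IsArtinianRing.of_finite K C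
  suffices H : ∀ (M : Type u) [AddCommGroup M] [Module C M] [Module.Finite C M],
      (letI := Module.compHom M (algebraMap K C); (Module.finrank K M : ℤ)) ∈ Curv2.indexSubgroup f by
    have hC := H C
    have e : Module.compHom C (algebraMap K C) = (Algebra.toModule : Module K C) :=
      Module.ext' _ _ fun r x => (Algebra.smul_def r x).symm
    rwa [e] at hC
  intro M _ _ hM
  induction hM using IsNoetherianRing.induction_on_isQuotientEquivQuotientPrime C with
  | subsingleton N =>
    letI := Module.compHom N (algebraMap K C)
    rw [Module.finrank_zero_of_subsingleton]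
    exact zero_mem _
  | quotient N p e =>
    letI := Module.compHom N (algebraMap K C)
    haveI : IsScalarTower K C N := IsScalarTower.of_algebraMap_smul fun r x => rfl
    haveI : p.1.IsMaximal := IsArtinianRing.isMaximal_of_isPrime p.1
    rw [(e.restrictScalars K).finrank_eq]
    exact finrank_quotient_mem f j hj p.1
  | exact N₁ N₂ N₃ g₁ g₂ hi hs hex h₁ h₃ =>
    letI := Module.compHom N₁ (algebraMap K C)
    letI := Module.compHom N₂ (algebraMap K C)
    letI := Module.compHom N₃ (algebraMap K C)
    haveI : IsScalarTower K C N₁ := IsScalarTower.of_algebraMap_smul fun r x => rfl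
    haveI : IsScalarTower K C N₂ := IsScalarTower.of_algebraMap_smul fun r x => rfl
    haveI : IsScalarTower K C N₃ := IsScalarTower.of_algebraMap_smul fun r x => rfl
    haveI : Module.Finite K N₂ := Module.Finite.trans C N₂
    let a := g₁.restrictScalars K
    let b := g₂.restrictScalars K
    have h := b.finrank_range_add_finrank_ker
    have hk : LinearMap.ker b = LinearMap.range a := by
      ext x; exact hex x
    rw [LinearMap.range_eq_top.mpr (show Function.Surjective b from hs), finrank_top, hk,
      LinearMap.finrank_range_of_inj (show Function.Injective a from hi)] at h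
    rw [← h, Nat.cast_add]
    exact add_mem h₃ h₁

end Groth.Agent.IndexMult
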