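import Groth.Agent.Lib.Cyc26.DegC1
import Groth.Agent.Lib.KoszulH13.PolyTop
import Groth.Agent.Lib.HomDim.VasconcelosSpread
import Mathlib.RingTheory.RingHom.StandardSmooth
import Mathlib.RingTheory.Smooth.StandardSmoothOfFree
import Mathlib.RingTheory.Smooth.Field
import Mathlib.RingTheory.Spectrum.Prime.FreeLocus
import Mathlib.RingTheory.TensorProduct.Quotient
import Mathlib.RingTheory.Regular.Flat
import Mathlib.RingTheory.Jacobson.Ring
import Mathlib.FieldTheory.IsAlgClosed.Basic

/-!
# A point cutting out the generic multiplicity of an irreducible algebra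
-/

set_option autoImplicit false
set_option linter.style.haveILetI false

universe u

open MvPolynomial TensorProduct

namespace Groth.Agent.IndexMult

/-- Translated variables form a weakly regular sequence. -/
theorem isWeaklyRegular_translate {k : Type u} [Field k] {d : ℕ} (c : Fin d → k) :
    RingTheory.Sequence.IsWeaklyRegular (MvPolynomial (Fin d) k) (List.ofFn fun i => X i - C (c i)) := by
  have h0 := KoszulH13.isWeaklyRegular_pw_T k d 1
  have hT : KoszulH13.pw (KoszulH13.T k d) 1 = List.ofFn fun i : Fin d => (X i : MvPolynomial (Fin d) k) := by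
    simp [KoszulH13.pw, KoszulH13.T, List.map_ofFn, Function.comp_def]
  rw [hT, Vasc.isWeaklyRegular_ofFn_iff] at h0
  rw [Vasc.isWeaklyRegular_ofFn_iff]
  let e : MvPolynomial (Fin d) k →ₐ[k] MvPolynomial (Fin d) k := aeval fun i => X i + C (c i)
  let e' : MvPolynomial (Fin d) k →ₐ[k] MvPolynomial (Fin d) k := aeval fun i => X i - C (c i)
  have he : ∀ a, e' (e a) = a := fun a => by
    rw [← AlgHom.comp_apply, show e'.comp e = AlgHom.id k _ from MvPolynomial.algHom_ext fun i => by simp [e, e']]
    rfl
  have hx : ∀ i, e (X i - C (c i)) = X i := fun i => by simp [e]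
  have hx' : ∀ i, e' (X i) = X i - C (c i) := fun i => by simp [e']
  intro i a ha
  have hset : ∀ s : Set (Fin d), (e '' ((fun i => X i - C (c i)) '' s)) = X '' s := fun s => by
    rw [Set.image_image]; simp only [hx]
  have h1 : X i * e a ∈ Ideal.span (X '' {j | j < i}) := by
    have := Ideal.mem_map_of_mem e ha
    rwa [Ideal.map_span, map_mul, hx, hset] at this
  have h2 := Ideal.mem_map_of_mem e' (h0 i (e a) h1)
  rw [Ideal.map_span, Set.image_image, he] at h2
  simpa only [hx'] using h2

section loc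

variable {D B : Type u} [CommRing D] [CommRing B] [Algebra D B] (h : D)

/-- Every element is a scalar up to nilpotents; this passes to localisations at scalars. -/
theorem scalar_mod_nilpotent_loc (hB : ∀ b : B, ∃ d : D, IsNilpotent (b - algebraMap D B d))
    (D' B' : Type u) [CommRing D'] [CommRing B'] [Algebra D D'] [IsLocalization.Away h D'] [Algebra B B']
    [IsLocalization.Away (algebraMap D B h) B'] [Algebra D' B'] [Algebra D B'] [IsScalarTower D B B']
    [IsScalarTower D D' B'] (b : B') : ∃ d : D', IsNilpotent (b - algebraMap D' B' d) := by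
  obtain ⟨x, ⟨_, n, rfl⟩, rfl⟩ := IsLocalization.exists_mk'_eq (Submonoid.powers (algebraMap D B h)) b
  obtain ⟨d, hd⟩ := hB x
  refine ⟨IsLocalization.mk' D' d (⟨h ^ n, n, rfl⟩ : Submonoid.powers h), ?_⟩
  have hu : algebraMap B B' (algebraMap D B (h ^ n)) * algebraMap D' B' (IsLocalization.mk' D' d
      (⟨h ^ n, n, rfl⟩ : Submonoid.powers h)) = algebraMap B B' (algebraMap D B d) := by
    rw [← IsScalarTower.algebraMap_apply D B B', ← IsScalarTower.algebraMap_apply D B B',
      IsScalarTower.algebraMap_apply D D' B', IsScalarTower.algebraMap_apply D D' B', ← map_mul]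
    congr 1
    exact IsLocalization.mk'_spec' D' d (⟨h ^ n, n, rfl⟩ : Submonoid.powers h)
  have hs : IsUnit (algebraMap B B' (algebraMap D B h ^ n)) :=
    IsLocalization.map_units B' (⟨algebraMap D B h ^ n, n, rfl⟩ : Submonoid.powers (algebraMap D B h))
  obtain ⟨v, hv⟩ := hs
  have key : algebraMap B B' (algebraMap D B h ^ n) * (IsLocalization.mk' B' x
      (⟨algebraMap D B h ^ n, n, rfl⟩ : Submonoid.powers (algebraMap D B h)) - algebraMap D' B'
      (IsLocalization.mk' D' d (⟨h ^ n, n, rfl⟩ : Submonoid.powers h))) = algebraMap B B' (x - algebraMap D B d) := by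
    rw [mul_sub, map_sub]
    congr 1
    · exact IsLocalization.mk'_spec' B' x (⟨algebraMap D B h ^ n, n, rfl⟩ : Submonoid.powers (algebraMap D B h))
    · rw [← map_pow]; exact hu
  have := hd.map (algebraMap B B')
  rw [← key, ← hv] at this
  exact (Commute.isNilpotent_mul_left_iff (Commute.all _ _) v.isUnit.mem_nonZeroDivisors.1).mp this

end loc

/-- The fibre of a free algebra, scalar modulo nilpotents, over a rational point. -/
theorem fibre_scalar {k D B : Type u} [Field k] [CommRing D] [Algebra k D] [CommRing B] [Algebra D B] [Algebra k B]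
    [IsScalarTower k D B] [Module.Free D B] [Module.Finite D B]
    (hB : ∀ b : B, ∃ d : D, IsNilpotent (b - algebraMap D B d)) (hpos : 0 < Module.finrank D B)
    (I : Ideal D) (hbij : Function.Bijective (algebraMap k (D ⧸ I))) :
    IsLocalRing (B ⧸ I.map (algebraMap D B)) ∧ Module.Finite k (B ⧸ I.map (algebraMap D B)) ∧
      Module.finrank k (B ⧸ I.map (algebraMap D B)) = Module.finrank D B := by
  let J := I.map (algebraMap D B)
  haveI : Nontrivial (D ⧸ I) := hbij.1.nontrivial
  haveI : Nontrivial D := (Ideal.Quotient.mk I).domain_nontrivial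
  let F := (D ⧸ I) ⊗[D] B
  let e : (B ⧸ J) ≃ₗ[D] F :=
    ((Algebra.TensorProduct.quotIdealMapEquivTensorQuot B I).toLinearEquiv.restrictScalars D).trans
      (TensorProduct.comm D B (D ⧸ I))
  let ek : (B ⧸ J) ≃ₗ[k] F := e.restrictScalars k
  haveI : Module.Finite k (D ⧸ I) := Module.Finite.of_surjective (Algebra.linearMap k (D ⧸ I)) hbij.2
  haveI : Module.Finite k F := Module.Finite.trans (D ⧸ I) F
  have hrF : Module.finrank k F = Module.finrank D B := by
    rw [← Module.finrank_mul_finrank k (D ⧸ I) F,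
      ← (LinearEquiv.ofBijective (Algebra.linearMap k (D ⧸ I)) hbij).finrank_eq, Module.finrank_self, one_mul,
      Module.finrank_baseChange]
  haveI : Module.Finite k (B ⧸ J) := Module.Finite.equiv ek.symm
  have hr : Module.finrank k (B ⧸ J) = Module.finrank D B := ek.finrank_eq.trans hrF
  refine ⟨?_, inferInstance, hr⟩
  haveI : Nontrivial (B ⧸ J) := Module.nontrivial_of_finrank_pos (R := k) (hr ▸ hpos)
  refine IsLocalRing.of_isUnit_or_isUnit_one_sub_self fun x => ?_
  obtain ⟨b, rfl⟩ := Ideal.Quotient.mk_surjective x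
  obtain ⟨d, hd⟩ := hB b
  obtain ⟨a, ha⟩ := hbij.2 (Ideal.Quotient.mk I d)
  have h1 : algebraMap k (B ⧸ J) a = Ideal.Quotient.mk J (algebraMap D B d) := by
    have hmem : algebraMap k D a - d ∈ I := by
      rw [← Ideal.Quotient.eq_zero_iff_mem, map_sub, Ideal.Quotient.mk_algebraMap, ha, sub_self]
    rw [IsScalarTower.algebraMap_apply k B (B ⧸ J), Ideal.Quotient.algebraMap_eq,
      IsScalarTower.algebraMap_apply k D B, Ideal.Quotient.eq, ← map_sub]
    exact Ideal.mem_map_of_mem _ hmem
  have hn : IsNilpotent (Ideal.Quotient.mk J b - algebraMap k (B ⧸ J) a) := by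
    rw [h1, ← map_sub]
    exact hd.map _
  rcases eq_or_ne a 0 with rfl | h0
  · rw [map_zero, sub_zero] at hn
    exact Or.inr hn.isUnit_one_sub
  · left
    have := hn.isUnit_add_left_of_commute ((Ne.isUnit h0).map (algebraMap k (B ⧸ J))) (Commute.all _ _)
    rwa [add_sub_cancel] at this

/-- The generic length of an irreducible free algebra, scalar modulo nilpotents, is its rank. -/
theorem length_eq_finrank {D B : Type u} [CommRing D] [IsDomain D] [CommRing B] [Algebra D B] [Module.Free D B]
    [Module.Finite D B] (hinj : Function.Injective (algebraMap D B))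
    (hB : ∀ b : B, ∃ d : D, IsNilpotent (b - algebraMap D B d)) [hN : (nilradical B).IsPrime] :
    Module.length (Localization.AtPrime (nilradical B)) (Localization.AtPrime (nilradical B)) =
      (Module.finrank D B : ℕ∞) := by
  let N := nilradical B
  let M : Submonoid B := Algebra.algebraMapSubmonoid B (nonZeroDivisors D)
  let K := FractionRing D
  let L := Localization.AtPrime N
  have hM : M ≤ N.primeCompl := by
    rintro _ ⟨d, hd, rfl⟩ hmem
    obtain ⟨m, hm⟩ := mem_nilradical.mp hmem
    rw [← map_pow, ← map_zero (algebraMap D B)] at hm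
    exact nonZeroDivisors.ne_zero hd (IsReduced.eq_zero d ⟨m, hinj hm⟩)
  have hdvd : ∀ t ∈ N.primeCompl, ∃ m ∈ M, t ∣ m := fun t ht => by
    obtain ⟨d, hd⟩ := hB t
    have hd0 : d ≠ 0 := fun h0 => ht (mem_nilradical.mpr (by simpa [h0] using hd))
    refine ⟨_, ⟨d ^ (hd.choose), pow_mem (mem_nonZeroDivisors_of_ne_zero hd0) _, rfl⟩, ?_⟩
    have h := sub_dvd_pow_sub_pow (algebraMap D B d) (algebraMap D B d - t) hd.choose
    rw [sub_sub_cancel, show algebraMap D B d - t = -(t - algebraMap D B d) by ring, neg_pow,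
      hd.choose_spec, mul_zero, sub_zero, ← map_pow] at h
    exact h
  haveI hML : IsLocalization M L := by
    constructor
    constructor
    · exact fun y => IsLocalization.map_units L (⟨y.1, hM y.2⟩ : N.primeCompl)
    · intro z
      obtain ⟨⟨x, t, ht⟩, hx⟩ := IsLocalization.surj N.primeCompl z
      obtain ⟨m, hm, r, rfl⟩ := hdvd t ht
      exact ⟨⟨x * r, ⟨t * r, hm⟩⟩, by simp only [map_mul]; rw [← mul_assoc, hx]⟩
    · intro x y hxy
      obtain ⟨⟨t, ht⟩, ht'⟩ := IsLocalization.exists_of_eq (M := N.primeCompl) (S := L) hxy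
      obtain ⟨m, hm, r, rfl⟩ := hdvd t ht
      exact ⟨⟨t * r, hm⟩, by linear_combination r * ht'⟩
  letI : Algebra K L := localizationAlgebra (nonZeroDivisors D) B (Rₘ := K) (Sₘ := L)
  haveI : IsScalarTower D K L := IsScalarTower.of_algebraMap_eq' (IsLocalization.map_comp (M := nonZeroDivisors D)
    (S := K) (g := algebraMap D B) (Q := L) (T := M) (Submonoid.le_comap_map _)).symm
  haveI : IsLocalizedModule (nonZeroDivisors D) (IsScalarTower.toAlgHom D B L).toLinearMap :=
    isLocalizedModule_iff_isLocalization.mpr inferInstance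
  have hbc : IsBaseChange K (IsScalarTower.toAlgHom D B L).toLinearMap :=
    (isLocalizedModule_iff_isBaseChange (nonZeroDivisors D) K _).mp inferInstance
  haveI : Module.Finite K L := Module.Finite.equiv hbc.equiv
  have hrank : Module.finrank K L = Module.finrank D B := by
    rw [← hbc.equiv.finrank_eq, Module.finrank_baseChange]
  have hsurj : Function.Surjective (algebraMap K (IsLocalRing.ResidueField L)) := by
    intro z
    obtain ⟨z, rfl⟩ := IsLocalRing.residue_surjective z
    obtain ⟨x, ⟨_, s, hs, rfl⟩, rfl⟩ := IsLocalization.exists_mk'_eq M z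
    obtain ⟨d, hd⟩ := hB x
    refine ⟨IsLocalization.mk' K d ⟨s, hs⟩, ?_⟩
    rw [IsScalarTower.algebraMap_apply K L (IsLocalRing.ResidueField L)]
    refine (Ideal.Quotient.eq.mpr ?_)
    have hu : IsUnit (algebraMap B L (algebraMap D B s)) :=
      IsLocalization.map_units L (⟨_, s, hs, rfl⟩ : M)
    refine (Ideal.unit_mul_mem_iff_mem _ hu).mp ?_
    have e1 : algebraMap B L (algebraMap D B s) * algebraMap K L (IsLocalization.mk' K d ⟨s, hs⟩) =
        algebraMap B L (algebraMap D B d) := by
      rw [← IsScalarTower.algebraMap_apply D B L, ← IsScalarTower.algebraMap_apply D B L,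
        IsScalarTower.algebraMap_apply D K L, IsScalarTower.algebraMap_apply D K L, ← map_mul]
      congr 1
      exact IsLocalization.mk'_spec' K d (⟨s, hs⟩ : nonZeroDivisors D)
    rw [mul_sub, e1, IsLocalization.mk'_spec' L x (⟨algebraMap D B s, s, hs, rfl⟩ : M), ← map_sub,
      ← neg_sub x, map_neg]
    exact neg_mem ((IsLocalRing.mem_maximalIdeal _).mpr (hd.map (algebraMap B L)).not_isUnit)
  haveI : Module.Finite K (IsLocalRing.ResidueField L) :=
    Module.Finite.of_surjective (Algebra.linearMap K (IsLocalRing.ResidueField L)) hsurj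
  have h1 : Module.finrank K (IsLocalRing.ResidueField L) = 1 := by
    rw [← (LinearEquiv.ofBijective (Algebra.linearMap K (IsLocalRing.ResidueField L))
      ⟨(algebraMap K (IsLocalRing.ResidueField L)).injective, hsurj⟩).finrank_eq, Module.finrank_self]
  have h := Cyc26.finrank_eq_length_mul (k := K) (R := L) (M := L)
  rw [h1, mul_one, hrank] at h
  haveI : IsArtinianRing L := IsArtinianRing.of_finite K L
  rw [h, ENat.natCast_toNat (Module.length_ne_top_iff.mpr
    (isFiniteLength_iff_isNoetherian_isArtinian.mpr ⟨inferInstance, inferInstance⟩))]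

/-- Near some rational point an algebra étale over affine space is cut out by the coordinates. -/
theorem exists_point_of_etale {k D : Type u} [Field k] [IsAlgClosed k] [CommRing D] [IsDomain D] [Algebra k D]
    [Algebra.FiniteType k D] {n : ℕ} [Algebra (MvPolynomial (Fin n) k) D]
    [IsScalarTower k (MvPolynomial (Fin n) k) D] [Algebra.Etale (MvPolynomial (Fin n) k) D] :
    ∃ (h : D) (c : Fin n → k), h ≠ 0 ∧ ∀ (D' : Type u) [CommRing D'] [Algebra D D'] [Algebra k D']
      [IsScalarTower k D D'] [IsLocalization.Away h D'],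
      Function.Bijective (algebraMap k (D' ⧸ (Ideal.span (Set.range fun i =>
        algebraMap D D' (algebraMap (MvPolynomial (Fin n) k) D (X i - C (c i))))))) := by
  let P := MvPolynomial (Fin n) k
  obtain ⟨m, hm⟩ := Ideal.exists_maximal D
  haveI : Module.Finite k (D ⧸ m) :=
    letI : Field (D ⧸ m) := Ideal.Quotient.field m
    finite_of_finite_type_of_isJacobsonRing k (D ⧸ m)
  letI : Field (D ⧸ m) := Ideal.Quotient.field m
  have hbij := IsAlgClosed.algebraMap_bijective_of_isIntegral (k := k) (K := D ⧸ m)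
  let c : Fin n → k := fun i => Function.surjInv hbij.2 (Ideal.Quotient.mk m (algebraMap P D (X i)))
  let P0 : Ideal P := Ideal.span (Set.range fun i => X i - C (c i))
  let I : Ideal D := P0.map (algebraMap P D)
  have hIs : I = Ideal.span (Set.range fun i => algebraMap P D (X i - C (c i))) := by
    simp only [I, P0, Ideal.map_span, ← Set.range_comp, Function.comp_def]
  have hIm : I ≤ m := by
    rw [hIs, Ideal.span_le]
    rintro _ ⟨i, rfl⟩
    beta_reduce
    rw [SetLike.mem_coe, ← Ideal.Quotient.eq_zero_iff_mem, map_sub, map_sub, sub_eq_zero,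
      ← MvPolynomial.algebraMap_eq, ← IsScalarTower.algebraMap_apply k P D, Ideal.Quotient.mk_algebraMap]
    exact (Function.surjInv_eq hbij.2 _).symm
  haveI : P0.IsMaximal := by
    have e : P0 = RingHom.ker (MvPolynomial.aeval c : P →ₐ[k] k) := by
      refine le_antisymm (Ideal.span_le.mpr ?_) fun p hp => ?_
      · rintro _ ⟨i, rfl⟩
        show MvPolynomial.aeval c (X i - C (c i) : MvPolynomial (Fin n) k) = 0
        rw [map_sub, MvPolynomial.aeval_X, MvPolynomial.aeval_C]
        exact sub_self _
      · have key : ∀ q : P, q - C (MvPolynomial.aeval c q) ∈ P0 := fun q => by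
          induction q using MvPolynomial.induction_on with
          | C a => simp
          | add a b ha hb =>
            have : a + b - C (MvPolynomial.aeval c (a + b)) =
                (a - C (MvPolynomial.aeval c a)) + (b - C (MvPolynomial.aeval c b)) := by
              rw [map_add, map_add]; ring
            exact this ▸ add_mem ha hb
          | mul_X a i ha =>
            have : a * X i - C (MvPolynomial.aeval c (a * X i)) =
                (a - C (MvPolynomial.aeval c a)) * C (c i) + a * (X i - C (c i)) := by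
              rw [map_mul, MvPolynomial.aeval_X, map_mul]; ring
            exact this ▸ add_mem (Ideal.mul_mem_right _ _ ha) (Ideal.mul_mem_left _ _ (Ideal.subset_span ⟨i, rfl⟩))
        have := key p
        rwa [RingHom.mem_ker.mp hp, map_zero, sub_zero] at this
    rw [e]
    exact RingHom.ker_isMaximal_of_surjective _ fun a => ⟨C a, (MvPolynomial.aeval_C _ _).trans rfl⟩
  letI : Field (P ⧸ P0) := Ideal.Quotient.field P0
  let E := D ⧸ I
  letI : Algebra (P ⧸ P0) E := Ideal.Quotient.algebraQuotientOfLEComap Ideal.le_comap_map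
  let eE : (P ⧸ P0) ⊗[P] D ≃ₐ[P ⧸ P0] E :=
    (Algebra.TensorProduct.quotIdealMapEquivQuotTensor D P0).symm
  haveI : Algebra.Etale (P ⧸ P0) E := Algebra.Etale.of_equiv eE
  haveI : IsReduced E := Algebra.FormallyUnramified.isReduced_of_field (P ⧸ P0) E
  haveI : Module.Finite (P ⧸ P0) E := Algebra.FormallyUnramified.finite_of_free (R := P ⧸ P0) (S := E)
  haveI : IsArtinianRing E := IsArtinianRing.of_finite (P ⧸ P0) E
  let mE : Ideal E := m.map (Ideal.Quotient.mk I)
  haveI hmE : mE.IsMaximal := Ideal.IsMaximal.map_of_surjective_of_ker_le Ideal.Quotient.mk_surjective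
    (by rw [Ideal.mk_ker]; exact hIm)
  classical
  obtain ⟨h', hhm, hh⟩ : ∃ z : E, z ∉ mE ∧ ∀ Q : MaximalSpectrum E, Q.asIdeal ≠ mE → z ∈ Q.asIdeal := by
    have : ∀ Q : MaximalSpectrum E, ∃ z : E, z ∉ mE ∧ (Q.asIdeal ≠ mE → z ∈ Q.asIdeal) := fun Q => by
      by_cases hQ : Q.asIdeal = mE
      · exact ⟨1, fun h => hmE.ne_top ((Ideal.eq_top_iff_one _).mpr h), fun h => absurd hQ h⟩
      · obtain ⟨z, hz1, hz2⟩ := SetLike.not_le_iff_exists.mp fun hle => hQ (Q.isMaximal.eq_of_le hmE.ne_top hle)
        exact ⟨z, hz2, fun _ => hz1⟩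
    choose z hz hzQ using this
    haveI := Fintype.ofFinite (MaximalSpectrum E)
    refine ⟨∏ Q, z Q, fun h => ?_, fun Q hQ => Ideal.prod_mem _ (Finset.mem_univ Q) (hzQ Q hQ)⟩
    obtain ⟨Q, -, hQ⟩ := (hmE.isPrime.prod_mem_iff).mp h
    exact hz Q hQ
  obtain ⟨h, rfl⟩ := Ideal.Quotient.mk_surjective h'
  have hhm' : h ∉ m := fun hm' => hhm (Ideal.mem_map_of_mem _ hm')
  refine ⟨h, c, fun h0 => hhm' (h0 ▸ m.zero_mem), fun D' _ _ _ _ _ => ?_⟩
  have hkey : ∀ x ∈ m, h * x ∈ I := fun x hx => by
    rw [← Ideal.Quotient.eq_zero_iff_mem]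
    refine IsNilpotent.eq_zero (mem_nilradical.mp ?_)
    rw [nilradical_eq_sInf]
    refine Submodule.mem_sInf.mpr fun (Q : Ideal E) (hQ : Q.IsPrime) => ?_
    by_cases hQm : Q = mE
    · exact hQm ▸ Ideal.mem_map_of_mem _ (Ideal.mul_mem_left _ _ hx)
    · rw [map_mul]
      exact Ideal.mul_mem_right _ _ (hh ⟨Q, IsArtinianRing.isMaximal_of_isPrime Q⟩ hQm)
  have hI' : Ideal.span (Set.range fun i => algebraMap D D' (algebraMap P D (X i - C (c i)))) =
      I.map (algebraMap D D') := by
    rw [hIs, Ideal.map_span, ← Set.range_comp]; rfl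
  rw [hI']
  have hu : IsUnit (algebraMap D D' h) := IsLocalization.Away.algebraMap_isUnit h
  refine ⟨?_, fun z => ?_⟩
  · haveI : Nontrivial (D' ⧸ I.map (algebraMap D D')) := Ideal.Quotient.nontrivial_iff.mpr fun htop => by
      have hd : Disjoint (Submonoid.powers h : Set D) (m : Set D) := Set.disjoint_left.mpr fun z ⟨j, hj⟩ hz =>
        hhm' (hm.isPrime.mem_of_pow_mem j (by subst hj; exact hz))
      have := IsLocalization.isPrime_of_isPrime_disjoint (Submonoid.powers h) D' m hm.isPrime hd
      exact this.ne_top (top_le_iff.mp (htop.ge.trans (Ideal.map_mono hIm)))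
    exact RingHom.injective _
  · obtain ⟨z, rfl⟩ := Ideal.Quotient.mk_surjective z
    obtain ⟨y, ⟨_, j, rfl⟩, rfl⟩ := IsLocalization.exists_mk'_eq (Submonoid.powers h) z
    obtain ⟨a, ha⟩ := hbij.2 (Ideal.Quotient.mk m y)
    obtain ⟨b, hb⟩ := hbij.2 (Ideal.Quotient.mk m (h ^ j))
    have hb0 : b ≠ 0 := fun h0 => hhm' (hm.isPrime.mem_of_pow_mem j
      (Ideal.Quotient.eq_zero_iff_mem.mp (by rw [← hb, h0, map_zero])))
    have hmem : y - algebraMap k D (a / b) * h ^ j ∈ m := by
      rw [← Ideal.Quotient.eq_zero_iff_mem, map_sub, map_mul, Ideal.Quotient.mk_algebraMap, ← ha, ← hb,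
        ← map_mul, div_mul_cancel₀ _ hb0, sub_self]
    refine ⟨a / b, ?_⟩
    rw [IsScalarTower.algebraMap_apply k D' (D' ⧸ _), Ideal.Quotient.algebraMap_eq, eq_comm, Ideal.Quotient.eq]
    refine (Ideal.unit_mul_mem_iff_mem _ (hu.pow j)).mp ((Ideal.unit_mul_mem_iff_mem _ hu).mp ?_)
    have h2 := Ideal.mem_map_of_mem (algebraMap D D') (hkey _ hmem)
    rw [map_mul, map_sub, map_mul, ← IsScalarTower.algebraMap_apply k D D', map_pow] at h2
    rw [mul_sub, ← map_pow, IsLocalization.mk'_spec' D' y (⟨h ^ j, j, rfl⟩ : Submonoid.powers h), map_pow,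
      mul_comm ((algebraMap D D' h) ^ j)]
    exact h2

end Groth.Agent.IndexMult
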