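import Groth.Agent.Lib.Hens.FiniteType
import Groth.Agent.Lib.HfpH6.FiniteNbhd
import Groth.Agent.Lib.HomDim.VasconcelosSpread
import Groth.Agent.Lib.ArInter.Genus

/-!
# Finite free sections through a point of the special fibre over a henselian discrete valuation ring
-/

set_option autoImplicit false
set_option linter.style.haveILetI false

universe u

namespace Groth.Agent.IndexMult

variable {R : Type u} [CommRing R] [IsDomain R] [IsDiscreteValuationRing R]

/-- Dividing by a sequence regular on the special fibre keeps the uniformiser regular. -/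
theorem regular_of_fibre_regular {A : Type u} [CommRing A] {p : A} (hp : ∀ a, p * a = 0 → a = 0) {n : ℕ}
    (y : Fin n → A)
    (hreg : RingTheory.Sequence.IsWeaklyRegular (A ⧸ Ideal.span {p})
      (List.ofFn fun i => Ideal.Quotient.mk (Ideal.span {p}) (y i))) :
    ∀ a, p * a ∈ Ideal.span (Set.range y) → a ∈ Ideal.span (Set.range y) := by
  rw [Vasc.isWeaklyRegular_ofFn_iff] at hreg
  have key : ∀ m : ℕ, m ≤ n → ∀ a, p * a ∈ Ideal.span (y '' {j | (j : ℕ) < m}) →
      a ∈ Ideal.span (y '' {j | (j : ℕ) < m}) := by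
    intro m
    induction m with
    | zero =>
      intro _ a ha
      simp only [Nat.not_lt_zero, Set.setOf_false, Set.image_empty, Ideal.span_empty, Ideal.mem_bot] at ha ⊢
      exact hp a ha
    | succ m ih =>
      intro hm a ha
      have hs : y '' {j | (j : ℕ) < m + 1} = insert (y ⟨m, hm⟩) (y '' {j | (j : ℕ) < m}) := by
        rw [← Set.image_insert_eq]
        congr 1
        ext j
        simp only [Set.mem_setOf_eq, Set.mem_insert_iff, Fin.ext_iff]
        omega
      rw [hs] at ha ⊢
      obtain ⟨b, c, hc, hbc⟩ := Ideal.mem_span_insert.mp ha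
      -- `b` vanishes on the fibre modulo the earlier members
      have hb : Ideal.Quotient.mk (Ideal.span {p}) b ∈
          Ideal.span ((fun i => Ideal.Quotient.mk (Ideal.span {p}) (y i)) '' {j | j < (⟨m, hm⟩ : Fin n)}) := by
        refine hreg ⟨m, hm⟩ _ ?_
        have h1 : Ideal.Quotient.mk (Ideal.span {p}) c ∈
            Ideal.span ((fun i => Ideal.Quotient.mk (Ideal.span {p}) (y i)) '' {j | j < (⟨m, hm⟩ : Fin n)}) := by
          have := Ideal.mem_map_of_mem (Ideal.Quotient.mk (Ideal.span {p})) hc
          rwa [Ideal.map_span, Set.image_image] at this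
        have h2 := congrArg (Ideal.Quotient.mk (Ideal.span {p})) hbc
        rw [map_mul, Ideal.Quotient.eq_zero_iff_mem.mpr (Ideal.mem_span_singleton_self p), zero_mul, map_add,
          map_mul, eq_comm, add_eq_zero_iff_eq_neg, mul_comm] at h2
        rw [h2]
        exact neg_mem h1
      rw [← Set.image_image (g := Ideal.Quotient.mk (Ideal.span {p})) (f := y), ← Ideal.map_span,
        Ideal.mem_map_iff_of_surjective _ Ideal.Quotient.mk_surjective] at hb
      obtain ⟨b', hb', hbe⟩ := hb
      obtain ⟨b'', hb''⟩ := Ideal.mem_span_singleton'.mp (Ideal.Quotient.eq.mp hbe.symm)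
      have h3 : p * (a - b'' * y ⟨m, hm⟩) ∈ Ideal.span (y '' {j | (j : ℕ) < m}) := by
        rw [show p * (a - b'' * y ⟨m, hm⟩) = c + b' * y ⟨m, hm⟩ by linear_combination hbc - y ⟨m, hm⟩ * hb'']
        exact add_mem hc (Ideal.mul_mem_right _ _ hb')
      rw [show a = b'' * y ⟨m, hm⟩ + (a - b'' * y ⟨m, hm⟩) by ring]
      exact Ideal.mem_span_insert.mpr ⟨b'', _, ih (Nat.le_of_succ_le hm) _ h3, rfl⟩
  intro a ha
  have e : y '' {j | (j : ℕ) < n} = Set.range y := by
    rw [show {j : Fin n | (j : ℕ) < n} = Set.univ from Set.eq_univ_of_forall fun j => j.2, Set.image_univ]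
  rw [← e] at ha ⊢
  exact key n le_rfl a ha

/-- A henselian section: a finite free quotient whose rank is the length of the fibre at the point. -/
theorem exists_finite_free [HenselianLocalRing R] {π : R} (hπ : Irreducible π) {A : Type u} [CommRing A]
    [Algebra R A] [Algebra.FiniteType R A] (htf : ∀ a : A, π • a = 0 → a = 0) {n : ℕ} (y : Fin n → A)
    (hreg : RingTheory.Sequence.IsWeaklyRegular (A ⧸ Ideal.span {algebraMap R A π})
      (List.ofFn fun i => Ideal.Quotient.mk (Ideal.span {algebraMap R A π}) (y i)))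
    (hloc : IsLocalRing (A ⧸ (Ideal.span {algebraMap R A π} ⊔ Ideal.span (Set.range y)))) (ℓ : ℕ)
    (hℓ : Module.length R (A ⧸ (Ideal.span {algebraMap R A π} ⊔ Ideal.span (Set.range y))) = ℓ) :
    ∃ (C : Type u) (_ : CommRing C) (_ : Algebra R C) (φ : A →ₐ[R] C), Function.Surjective φ ∧
      Module.Finite R C ∧ Module.Free R C ∧ Module.finrank R C = ℓ := by
  let I : Ideal A := Ideal.span (Set.range y)
  let p := algebraMap R A π
  let J : Ideal A := Ideal.span {p} ⊔ I
  let A' := A ⧸ I
  have hπA : ∀ a : A', π • a = 0 → a = 0 := fun a ha => by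
    obtain ⟨a, rfl⟩ := Ideal.Quotient.mk_surjective a
    rw [Algebra.smul_def, IsScalarTower.algebraMap_apply R A A', Ideal.Quotient.algebraMap_eq, ← map_mul,
      Ideal.Quotient.eq_zero_iff_mem] at ha
    exact Ideal.Quotient.eq_zero_iff_mem.mpr
      (regular_of_fibre_regular (fun a h => htf a ((Algebra.smul_def _ _).trans h)) y hreg a ha)
  obtain ⟨e, he, hfin, hmem⟩ := Hens.exists_finite_split R A'
  let C := A' ⧸ Ideal.span ({1 - e} : Set A')
  haveI : Module.Finite R C := hfin
  have hsplit : ∀ x : A', x ∈ Ideal.span ({1 - e} : Set A') ↔ e * x = 0 := fun x => by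
    constructor
    · intro hx
      obtain ⟨z, rfl⟩ := Ideal.mem_span_singleton'.mp hx
      linear_combination -z * he.eq
    · intro hx
      exact Ideal.mem_span_singleton'.mpr ⟨x, by linear_combination -hx⟩
  have htfC : ∀ c : C, π • c = 0 → c = 0 := fun c hc => by
    obtain ⟨x, rfl⟩ := Ideal.Quotient.mk_surjective c
    replace hc : Ideal.Quotient.mk (Ideal.span ({1 - e} : Set A')) (algebraMap R A' π * x) = 0 := by
      rw [← Algebra.smul_def]; exact hc
    rw [Ideal.Quotient.eq_zero_iff_mem, hsplit] at hc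
    rw [Ideal.Quotient.eq_zero_iff_mem, hsplit]
    exact hπA _ (by rw [Algebra.smul_def]; linear_combination hc)
  haveI : Module.IsTorsionFree R C := by
    refine Module.IsTorsionFree.mk fun r hr c₁ c₂ h => ?_
    obtain ⟨k, u, hu⟩ := IsDiscreteValuationRing.eq_unit_mul_pow_irreducible hr.ne_zero hπ
    have key : ∀ (k : ℕ) (c : C), π ^ k • c = 0 → c = 0 := fun k => by
      induction k with
      | zero => intro c hc; simpa using hc
      | succ k ih => intro c hc; rw [pow_succ', mul_smul] at hc; exact ih c (htfC _ hc)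
    refine sub_eq_zero.mp (key k _ ?_)
    have h' : r • (c₁ - c₂) = 0 := by rw [smul_sub, sub_eq_zero]; exact h
    rw [hu, mul_smul] at h'
    exact (smul_eq_zero_iff_eq u).mp h'
  haveI : Module.Free R C := inferInstance
  -- the special fibre of `C` is the whole fibre
  let π' : A' := algebraMap R A' π
  let eJ : (A' ⧸ Ideal.span {π'}) ≃ₐ[R] A ⧸ J :=
    (Ideal.quotientEquivAlgOfEq R (show Ideal.span {π'} = (Ideal.span {p}).map (Ideal.Quotient.mkₐ R I) by
      rw [Ideal.map_span, Set.image_singleton]; rfl)).trans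
      ((DoubleQuot.quotQuotEquivQuotSupₐ R I (Ideal.span {p})).trans
        (Ideal.quotientEquivAlgOfEq R (sup_comm _ _)))
  haveI : IsLocalRing (A' ⧸ Ideal.span {π'}) := eJ.symm.toRingEquiv.isLocalRing
  have hlen : Module.length R (A' ⧸ Ideal.span {π'}) = ℓ := eJ.toLinearEquiv.length_eq.trans hℓ
  have he1 : 1 - e ∈ Ideal.span {π'} := by
    rw [← Ideal.Quotient.eq_zero_iff_mem]
    by_contra hne
    have hi : IsIdempotentElem (Ideal.Quotient.mk (Ideal.span {π'}) (1 - e)) := he.one_sub.map _
    rcases IsLocalRing.isUnit_or_isUnit_one_sub_self (Ideal.Quotient.mk (Ideal.span {π'}) (1 - e)) with hu | hu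
    · -- then `e` vanishes on the fibre
      have h1 : Ideal.Quotient.mk (Ideal.span {π'}) (1 - e) = 1 := hu.mul_left_cancel (by rw [hi.eq, mul_one])
      rw [map_sub, map_one, sub_eq_self, Ideal.Quotient.eq_zero_iff_mem] at h1
      let q : Ideal A' := (IsLocalRing.maximalIdeal (A' ⧸ Ideal.span {π'})).comap (Ideal.Quotient.mk _)
      haveI : q.IsPrime := Ideal.IsPrime.comap _
      have hπq : π' ∈ q := by
        rw [Ideal.mem_comap, Ideal.Quotient.eq_zero_iff_mem.mpr (Ideal.mem_span_singleton_self π')]
        exact zero_mem _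
      have hmq : (IsLocalRing.maximalIdeal R).map (algebraMap R A') = Ideal.span {π'} := by
        rw [(IsDiscreteValuationRing.irreducible_iff_uniformizer π).mp hπ, Ideal.map_span, Set.image_singleton]
      have hover : q.LiesOver (IsLocalRing.maximalIdeal R) := by
        refine ⟨((IsLocalRing.maximalIdeal.isMaximal R).eq_of_le (Ideal.IsPrime.under R q).ne_top ?_)⟩
        refine Ideal.map_le_iff_le_comap.mp (hmq.le.trans ?_)
        rw [Ideal.span_singleton_le_iff_mem]
        exact hπq
      haveI : Module.Finite R (A' ⧸ (IsLocalRing.maximalIdeal R).map (algebraMap R A')) := by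
        rw [hmq]
        have hne : Module.length R (A' ⧸ Ideal.span {π'}) ≠ ⊤ := hlen ▸ ENat.natCast_ne_top ℓ
        obtain ⟨hN, -⟩ := isFiniteLength_iff_isNoetherian_isArtinian.mp (Module.length_ne_top_iff.mp hne)
        exact ⟨hN.noetherian ⊤⟩
      haveI := HfpH6.quasiFiniteAt_of_finite_quotient (IsLocalRing.maximalIdeal R) q
        (hmq.le.trans ((Ideal.span_singleton_le_iff_mem _).mpr hπq))
      exact hmem q hover inferInstance (by
        rw [Ideal.mem_comap, Ideal.Quotient.eq_zero_iff_mem.mpr h1]; exact zero_mem _)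
    · refine hne (hu.mul_left_cancel ?_)
      rw [mul_zero, sub_mul, one_mul, hi.eq, sub_self]
  refine ⟨C, inferInstance, inferInstance, (Ideal.Quotient.mkₐ R _).comp (Ideal.Quotient.mkₐ R I),
    Ideal.Quotient.mk_surjective.comp Ideal.Quotient.mk_surjective, inferInstance, inferInstance, ?_⟩
  obtain ⟨hr, -⟩ := ArInter.rank_eq_sub hπ C
  have hker : LinearMap.ker (ArInter.smulEnd C π) = ⊥ := LinearMap.ker_eq_bot'.mpr htfC
  rw [hker, Module.length_bot, zero_add] at hr
  let g : A' →ₗ[R] C ⧸ LinearMap.range (ArInter.smulEnd C π) :=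
    (Submodule.mkQ _).comp (Ideal.Quotient.mkₐ R (Ideal.span ({1 - e} : Set A'))).toLinearMap
  have hg : LinearMap.ker g = (Ideal.span {π'}).restrictScalars R := by
    ext x
    simp only [g, LinearMap.mem_ker, LinearMap.comp_apply, Submodule.mkQ_apply, Submodule.Quotient.mk_eq_zero,
      LinearMap.mem_range, Submodule.restrictScalars_mem]
    constructor
    · rintro ⟨c, hc⟩
      obtain ⟨z, rfl⟩ := Ideal.Quotient.mk_surjective c
      have h : x - π • z ∈ Ideal.span ({1 - e} : Set A') := Ideal.Quotient.eq.mp hc.symm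
      have := add_mem (Ideal.span_le.mpr (Set.singleton_subset_iff.mpr he1) h)
        (Ideal.mul_mem_right z _ (Ideal.mem_span_singleton_self π'))
      rwa [Algebra.smul_def, sub_add_cancel] at this
    · intro hx
      obtain ⟨z, rfl⟩ := Ideal.mem_span_singleton'.mp hx
      exact ⟨Ideal.Quotient.mk _ z, ((Algebra.smul_def π _).trans (map_mul (Ideal.Quotient.mk
        (Ideal.span ({1 - e} : Set A'))) π' z).symm).trans (congrArg (Ideal.Quotient.mk _) (mul_comm π' z))⟩
  have hgs : Function.Surjective g :=
    (Submodule.mkQ_surjective _).comp Ideal.Quotient.mk_surjective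
  have heq : Module.length R (C ⧸ LinearMap.range (ArInter.smulEnd C π)) = Module.length R (A' ⧸ Ideal.span {π'}) := by
    rw [← ((Submodule.quotEquivOfEq _ _ hg.symm).trans (g.quotKerEquivOfSurjective hgs)).length_eq]
    rfl
  rw [heq, hlen] at hr
  exact_mod_cast hr.symm

end Groth.Agent.IndexMult
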