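import Groth.Agent.Lib.IndexMult.Basic
import Mathlib.RingTheory.Localization.LocalizationLocalization

/-!
# A point cutting out the generic multiplicity
-/

set_option autoImplicit false
set_option linter.style.haveILetI false
set_option maxHeartbeats 800000
set_option synthInstance.maxHeartbeats 80000

universe u

open MvPolynomial TensorProduct

namespace Groth.Agent.IndexMult

/-- The step from a free algebra over an étale neighbourhood to one point. -/
theorem exists_point_of_free {k B₀ : Type u} [Field k] [IsAlgClosed k] [CommRing B₀] [Algebra k B₀]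
    [hN : (nilradical B₀).IsPrime] {n : ℕ}
    (D₂ B₂ : Type u) [CommRing D₂] [IsDomain D₂] [CommRing B₂] [Algebra k D₂] [Algebra.FiniteType k D₂]
    [Algebra (MvPolynomial (Fin n) k) D₂] [IsScalarTower k (MvPolynomial (Fin n) k) D₂]
    [Algebra.Etale (MvPolynomial (Fin n) k) D₂] [Algebra D₂ B₂] [Module.Free D₂ B₂] [Module.Finite D₂ B₂]
    [Algebra B₀ B₂] [Algebra k B₂] [IsScalarTower k B₀ B₂] [IsScalarTower k D₂ B₂]
    (g₀ : B₀) [IsLocalization.Away g₀ B₂] (hinj₂ : Function.Injective (algebraMap D₂ B₂))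
    (hstar₂ : ∀ b : B₂, ∃ d : D₂, IsNilpotent (b - algebraMap D₂ B₂ d)) :
    ∃ (B' : Type u) (_ : CommRing B') (_ : Algebra B₀ B') (g : B₀) (_ : IsLocalization.Away g B')
      (y : Fin n → B'),
      RingTheory.Sequence.IsWeaklyRegular B' (List.ofFn y) ∧
      IsLocalRing (B' ⧸ Ideal.span (Set.range y)) ∧
      ∃ _ : Algebra k (B' ⧸ Ideal.span (Set.range y)),
        (∀ a : k, algebraMap k (B' ⧸ Ideal.span (Set.range y)) a =
          Ideal.Quotient.mk _ (algebraMap B₀ B' (algebraMap k B₀ a))) ∧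
        Module.Finite k (B' ⧸ Ideal.span (Set.range y)) ∧
        (Module.finrank k (B' ⧸ Ideal.span (Set.range y)) : ℕ∞) =
          Module.length (Localization.AtPrime (nilradical B₀)) (Localization.AtPrime (nilradical B₀)) := by
  let P := MvPolynomial (Fin n) k
  let N := nilradical B₀
  letI : Algebra P B₂ := ((algebraMap D₂ B₂).comp (algebraMap P D₂)).toAlgebra
  haveI : IsScalarTower P D₂ B₂ := IsScalarTower.of_algebraMap_eq fun _ => rfl
  obtain ⟨h₂, c, hh₂, hpt⟩ := exists_point_of_etale (k := k) (D := D₂) (n := n)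
  let D₃ := Localization.Away h₂
  let B₃ := Localization (Algebra.algebraMapSubmonoid B₂ (Submonoid.powers h₂))
  haveI : IsLocalization.Away (algebraMap D₂ B₂ h₂) B₃ := by
    have e : Algebra.algebraMapSubmonoid B₂ (Submonoid.powers h₂) = Submonoid.powers (algebraMap D₂ B₂ h₂) :=
      Submonoid.map_powers _ _
    show IsLocalization (Submonoid.powers (algebraMap D₂ B₂ h₂)) B₃
    rw [← e]
    exact Localization.isLocalization
  haveI : IsLocalizedModule (Submonoid.powers h₂) (IsScalarTower.toAlgHom D₂ B₂ B₃).toLinearMap :=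
    (isLocalizedModule_iff_isLocalization (S := Submonoid.powers h₂) (R := D₂) (A := B₂) (Aₛ := B₃)).mpr inferInstance
  letI : Algebra D₃ B₃ := localizationAlgebra (Submonoid.powers h₂) B₂ (Rₘ := D₃) (Sₘ := B₃)
  haveI : IsScalarTower D₂ D₃ B₃ := IsScalarTower.of_algebraMap_eq' (IsLocalization.map_comp (M := Submonoid.powers h₂)
    (S := D₃) (g := algebraMap D₂ B₂) (Q := B₃) (T := Algebra.algebraMapSubmonoid B₂ (Submonoid.powers h₂))
    (Submonoid.le_comap_map _)).symm
  haveI : IsScalarTower P D₂ B₃ := IsScalarTower.of_algebraMap_eq fun r =>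
    (IsScalarTower.algebraMap_apply P B₂ B₃ r).trans <| (congrArg (algebraMap B₂ B₃)
      (IsScalarTower.algebraMap_apply P D₂ B₂ r)).trans (IsScalarTower.algebraMap_apply D₂ B₂ B₃ _).symm
  have hbc : IsBaseChange D₃ (IsScalarTower.toAlgHom D₂ B₂ B₃).toLinearMap :=
    (isLocalizedModule_iff_isBaseChange (Submonoid.powers h₂) D₃ _).mp inferInstance
  haveI : Module.Free D₃ B₃ := Module.Free.of_equiv hbc.equiv
  haveI : Module.Finite D₃ B₃ := Module.Finite.equiv hbc.equiv
  haveI : IsDomain D₃ := IsLocalization.isDomain_localization (powers_le_nonZeroDivisors_of_noZeroDivisors hh₂)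
  haveI : Algebra.Etale D₂ D₃ := Algebra.Etale.of_isLocalizationAway h₂
  haveI : Algebra.Etale P D₃ := Algebra.Etale.comp P D₂ D₃
  haveI : IsScalarTower P D₃ B₃ := IsScalarTower.to₁₃₄ P D₂ D₃ B₃
  haveI : Module.Flat P B₃ := Module.Flat.trans P D₃ B₃
  have hstar₃ := fun b => scalar_mod_nilpotent_loc h₂ hstar₂ D₃ B₃ b
  let t : Fin n → B₃ := fun i => algebraMap P B₃ (X i - C (c i))
  have hreg : RingTheory.Sequence.IsWeaklyRegular B₃ (List.ofFn t) := by
    have := (isWeaklyRegular_translate c).of_flat (S := B₃)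
    rwa [List.map_ofFn] at this
  let I₃ : Ideal D₃ := Ideal.span (Set.range fun i => algebraMap D₂ D₃ (algebraMap P D₂ (X i - C (c i))))
  have hI₃ : Ideal.span (Set.range t) = I₃.map (algebraMap D₃ B₃) := by
    rw [Ideal.map_span, ← Set.range_comp]
    congr 2
    funext i
    show _ = algebraMap D₃ B₃ (algebraMap D₂ D₃ (algebraMap P D₂ _))
    rw [← IsScalarTower.algebraMap_apply P D₂ D₃, ← IsScalarTower.algebraMap_apply P D₃ B₃]
  -- nilradical and lengths
  let g₂ : B₀ := (IsLocalization.Away.sec (g₀) (algebraMap D₂ B₂ h₂)).1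
  haveI : IsLocalization.Away (g₀ * g₂) B₃ := by
    haveI : IsLocalization.Away (algebraMap B₀ B₂ g₂) B₃ :=
      IsLocalization.Away.of_associated (IsLocalization.Away.associated_sec_fst (g₀) (algebraMap D₂ B₂ h₂)).symm
    exact IsLocalization.Away.mul' B₂ B₃ (g₀) g₂
  have hinj₃ : Function.Injective (algebraMap D₃ B₃) :=
    IsLocalization.map_injective_of_injective (M := Submonoid.powers h₂) D₃ B₃ hinj₂
  haveI : Nontrivial B₃ := hinj₃.nontrivial
  have hg : g₀ * g₂ ∉ N := fun h => by
    obtain ⟨j, hj⟩ := mem_nilradical.mp h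
    have hu : IsUnit (algebraMap B₀ B₃ (g₀ * g₂)) := IsLocalization.Away.algebraMap_isUnit _
    have := hu.pow j
    rw [← map_pow, hj, map_zero] at this
    exact not_isUnit_zero this
  have hdisj : Disjoint (Submonoid.powers (g₀ * g₂) : Set B₀) (N : Set B₀) :=
    Set.disjoint_left.mpr fun x ⟨j, hj⟩ hx => hg (hN.mem_of_pow_mem j (by subst hj; exact hx))
  have hnil : nilradical B₃ = N.map (algebraMap B₀ B₃) := by
    refine le_antisymm ?_ (Ideal.map_le_iff_le_comap.mpr fun x hx =>
      mem_nilradical.mpr ((mem_nilradical.mp hx).map _))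
    intro x hx
    obtain ⟨y, ⟨_, j, rfl⟩, rfl⟩ := IsLocalization.exists_mk'_eq (Submonoid.powers (g₀ * g₂)) x
    rw [IsLocalization.mk'_mem_map_algebraMap_iff (Submonoid.powers (g₀ * g₂))]
    obtain ⟨l, hl⟩ := mem_nilradical.mp hx
    rw [← IsLocalization.mk'_pow, IsLocalization.mk'_eq_zero_iff] at hl
    obtain ⟨⟨_, i, rfl⟩, hi⟩ := hl
    refine ⟨_, ⟨i, rfl⟩, hN.mem_of_pow_mem (l + 1) ?_⟩
    have h2 : (g₀ * g₂) ^ i * y ^ l = 0 := hi
    rw [mul_pow, pow_succ ((g₀ * g₂) ^ i), pow_succ y,
      show ((g₀ * g₂) ^ i) ^ l * (g₀ * g₂) ^ i * (y ^ l * y) =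
        ((g₀ * g₂) ^ i) ^ l * y * ((g₀ * g₂) ^ i * y ^ l) by ring, h2, mul_zero]
    exact N.zero_mem
  haveI hN₃ : (nilradical B₃).IsPrime := hnil ▸ IsLocalization.isPrime_of_isPrime_disjoint _ B₃ N hN hdisj
  have hcomap : (nilradical B₃).comap (algebraMap B₀ B₃) = N := by
    rw [hnil]
    exact IsLocalization.comap_map_of_isPrime_disjoint _ B₃ hN hdisj
  let L₃ := Localization.AtPrime (nilradical B₃)
  haveI : IsLocalization.AtPrime L₃ ((nilradical B₃).comap (algebraMap B₀ B₃)) :=
    IsLocalization.isLocalization_isLocalization_atPrime_isLocalization (Submonoid.powers (g₀ * g₂)) L₃ (nilradical B₃)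
  haveI : IsLocalization N.primeCompl L₃ := by
    have e : ((nilradical B₃).comap (algebraMap B₀ B₃)).primeCompl = N.primeCompl := by
      ext x
      show x ∉ (nilradical B₃).comap (algebraMap B₀ B₃) ↔ x ∉ N
      rw [hcomap]
    rw [← e]
    infer_instance
  let eL : Localization.AtPrime N ≃ₐ[B₀] L₃ := IsLocalization.algEquiv N.primeCompl _ _
  have hlen : Module.length (Localization.AtPrime N) (Localization.AtPrime N) = (Module.finrank D₃ B₃ : ℕ∞) := by
    rw [← length_eq_finrank hinj₃ hstar₃]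
    letI := eL.toRingEquiv.toRingHom.toAlgebra
    have hs : Function.Surjective (algebraMap (Localization.AtPrime N) L₃) := eL.surjective
    rw [← Module.length_eq_of_surjective (M := L₃) hs]
    exact LinearEquiv.length_eq (LinearEquiv.ofBijective (Algebra.linearMap (Localization.AtPrime N) L₃) eL.bijective)
  have hpos : 0 < Module.finrank D₃ B₃ := Module.finrank_pos
  have hbij := hpt D₃
  haveI : IsScalarTower k D₂ B₃ := IsScalarTower.of_algebraMap_eq fun r =>
    (IsScalarTower.algebraMap_apply k B₂ B₃ r).trans <| (congrArg (algebraMap B₂ B₃)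
      (IsScalarTower.algebraMap_apply k D₂ B₂ r)).trans (IsScalarTower.algebraMap_apply D₂ B₂ B₃ _).symm
  haveI : IsScalarTower k D₃ B₃ := IsScalarTower.of_algebraMap_eq fun r =>
    (IsScalarTower.algebraMap_apply k D₂ B₃ r).trans <| (IsScalarTower.algebraMap_apply D₂ D₃ B₃ _).trans
      (congrArg (algebraMap D₃ B₃) (IsScalarTower.algebraMap_apply k D₂ D₃ r).symm)
  obtain ⟨hloc, hfin, hrk⟩ := fibre_scalar hstar₃ hpos I₃ hbij
  refine ⟨B₃, inferInstance, inferInstance, g₀ * g₂, inferInstance, t, hreg, ?_⟩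
  rw [hI₃]
  refine ⟨hloc, inferInstance, fun a => ?_, hfin, by rw [hrk, hlen]⟩
  haveI : IsScalarTower k B₀ B₃ := IsScalarTower.of_algebraMap_eq fun r =>
    (IsScalarTower.algebraMap_apply k B₂ B₃ r).trans <| (congrArg (algebraMap B₂ B₃)
      (IsScalarTower.algebraMap_apply k B₀ B₂ r)).trans (IsScalarTower.algebraMap_apply B₀ B₂ B₃ _).symm
  rw [IsScalarTower.algebraMap_apply k B₃ (B₃ ⧸ _), IsScalarTower.algebraMap_apply k B₀ B₃]
  rfl


theorem exists_point {k B : Type u} [Field k] [IsAlgClosed k] [CommRing B] [Algebra k B]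
    [Algebra.FiniteType k B] [hN : (nilradical B).IsPrime] :
    ∃ (B' : Type u) (_ : CommRing B') (_ : Algebra B B') (g : B) (_ : IsLocalization.Away g B')
      (n : ℕ) (y : Fin n → B'),
      RingTheory.Sequence.IsWeaklyRegular B' (List.ofFn y) ∧
      IsLocalRing (B' ⧸ Ideal.span (Set.range y)) ∧
      ∃ _ : Algebra k (B' ⧸ Ideal.span (Set.range y)),
        (∀ a : k, algebraMap k (B' ⧸ Ideal.span (Set.range y)) a =
          Ideal.Quotient.mk _ (algebraMap B B' (algebraMap k B a))) ∧
        Module.Finite k (B' ⧸ Ideal.span (Set.range y)) ∧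
        (Module.finrank k (B' ⧸ Ideal.span (Set.range y)) : ℕ∞) =
          Module.length (Localization.AtPrime (nilradical B)) (Localization.AtPrime (nilradical B)) := by
  haveI : IsNoetherianRing B := Algebra.FiniteType.isNoetherianRing k B
  let N := nilradical B
  let D := B ⧸ N
  haveI : Algebra.FinitePresentation k D := Algebra.FinitePresentation.of_finiteType.1 inferInstance
  haveI : IsDomain D := Ideal.Quotient.isDomain N
  haveI : Algebra.IsSmoothAt k (⊥ : Ideal D) := by
    haveI : IsFractionRing D (Localization.AtPrime (⊥ : Ideal D)) := by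
      have e : (⊥ : Ideal D).primeCompl = nonZeroDivisors D := by
        ext x
        simp [mem_nonZeroDivisors_iff_ne_zero]
      show IsLocalization (nonZeroDivisors D) _
      rw [← e]
      exact Localization.isLocalization
    letI : Field (Localization.AtPrime (⊥ : Ideal D)) := IsFractionRing.toField D
    haveI : Algebra.EssFiniteType k (Localization.AtPrime (⊥ : Ideal D)) :=
      Algebra.EssFiniteType.comp k D _
    exact inferInstanceAs (Algebra.FormallySmooth k (Localization.AtPrime (⊥ : Ideal D)))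
  obtain ⟨f, hf, hfs⟩ := Algebra.IsSmoothAt.exists_notMem_isStandardSmooth k (⊥ : Ideal D)
  obtain ⟨f, rfl⟩ := Ideal.Quotient.mk_surjective f
  have hfN : f ∉ N := fun h => hf (by rw [Ideal.mem_bot]; exact Ideal.Quotient.eq_zero_iff_mem.mpr h)
  let D₁ := Localization.Away (Ideal.Quotient.mk N f)
  let B₁ := Localization.Away f
  haveI : IsDomain D₁ := IsLocalization.isDomain_localization
    (powers_le_nonZeroDivisors_of_noZeroDivisors fun h => hf (by rw [h]; exact Submodule.zero_mem _))
  obtain ⟨n, φ, hφC, hφ⟩ := RingHom.IsStandardSmooth.exists_etale_mvPolynomial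
    (f := algebraMap k D₁) (RingHom.isStandardSmooth_algebraMap.mpr hfs)
  let P := MvPolynomial (Fin n) k
  letI : Algebra P D₁ := φ.toAlgebra
  haveI : IsScalarTower k P D₁ := IsScalarTower.of_algebraMap_eq' hφC.symm
  haveI : Algebra.Etale P D₁ := hφ
  let q₀ : B₁ →+* D₁ := IsLocalization.map D₁ (Ideal.Quotient.mk N) (M := Submonoid.powers f)
    (T := Submonoid.powers (Ideal.Quotient.mk N f)) (Submonoid.powers_le.mpr ⟨1, pow_one _⟩)
  let q : B₁ →ₐ[k] D₁ :=
    { q₀ with
      commutes' := fun r => by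
        show q₀ (algebraMap k B₁ r) = _
        rw [IsScalarTower.algebraMap_apply k B B₁, IsLocalization.map_eq]
        rfl }
  have hqs : Function.Surjective q := by
    intro z
    obtain ⟨d, ⟨_, j, rfl⟩, rfl⟩ := IsLocalization.exists_mk'_eq (Submonoid.powers (Ideal.Quotient.mk N f)) z
    obtain ⟨b, rfl⟩ := Ideal.Quotient.mk_surjective d
    refine ⟨IsLocalization.mk' B₁ b (⟨f ^ j, j, rfl⟩ : Submonoid.powers f), ?_⟩
    show q₀ _ = _
    rw [IsLocalization.map_mk']
    congr 1
  haveI : IsNoetherianRing B₁ := IsLocalization.isNoetherianRing (Submonoid.powers f) _ inferInstance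
  have hfg : (RingHom.ker (q : B₁ →+* D₁)).FG := IsNoetherian.noetherian _
  have hker : IsNilpotent (RingHom.ker (q : B₁ →+* D₁)) := by
    rw [hfg.isNilpotent_iff_le_nilradical]
    intro z hz
    obtain ⟨x, ⟨_, m, rfl⟩, rfl⟩ := IsLocalization.exists_mk'_eq (Submonoid.powers f) z
    have hz' : q₀ (IsLocalization.mk' B₁ x (⟨f ^ m, m, rfl⟩ : Submonoid.powers f)) = 0 := hz
    rw [IsLocalization.map_mk', IsLocalization.mk'_eq_zero_iff] at hz'
    obtain ⟨⟨_, j, rfl⟩, hj⟩ := hz'
    have hx : f ^ j * x ∈ N := by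
      rw [← Ideal.Quotient.eq_zero_iff_mem, map_mul, map_pow]
      exact hj
    have hx' : x ∈ N := (hN.mem_or_mem hx).resolve_left fun h => hfN (hN.mem_of_pow_mem j h)
    rw [mem_nilradical, IsLocalization.mk'_eq_mul_mk'_one]
    exact (Commute.all _ _).isNilpotent_mul_right ((mem_nilradical.mp hx').map (algebraMap B B₁))
  let z : Fin n → B₁ := fun i => Function.surjInv hqs (algebraMap P D₁ (X i))
  letI : Algebra P B₁ := (MvPolynomial.aeval z).toRingHom.toAlgebra
  haveI : IsScalarTower k P B₁ :=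
    IsScalarTower.of_algebraMap_eq fun r => (AlgHom.commutes (MvPolynomial.aeval z) r).symm
  have hqP : (q : B₁ →+* D₁).comp (algebraMap P B₁) = algebraMap P D₁ := by
    refine MvPolynomial.ringHom_ext (fun r => ?_) fun i => ?_
    · show q (MvPolynomial.aeval z (C r)) = _
      rw [MvPolynomial.aeval_C, q.commutes]
      exact IsScalarTower.algebraMap_apply k P D₁ r
    · show q (MvPolynomial.aeval z (X i)) = _
      rw [MvPolynomial.aeval_X]
      exact Function.surjInv_eq hqs _
  let qP : B₁ →ₐ[P] D₁ := { (q : B₁ →+* D₁) with commutes' := RingHom.congr_fun hqP }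
  let σ : D₁ →ₐ[P] B₁ := Algebra.FormallySmooth.liftOfSurjective (AlgHom.id P D₁) qP hqs hker
  have hσ : ∀ x, q (σ x) = x := fun x =>
    Algebra.FormallySmooth.liftOfSurjective_apply (AlgHom.id P D₁) qP hqs hker x
  letI : Algebra D₁ B₁ := σ.toRingHom.toAlgebra
  haveI : IsScalarTower P D₁ B₁ := IsScalarTower.of_algebraMap_eq fun r => (σ.commutes r).symm
  haveI : IsScalarTower k D₁ B₁ := IsScalarTower.of_algebraMap_eq fun r => by
    rw [IsScalarTower.algebraMap_apply k P B₁, IsScalarTower.algebraMap_apply k P D₁,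
      IsScalarTower.algebraMap_apply P D₁ B₁]
  have hinj₁ : Function.Injective (algebraMap D₁ B₁) := Function.LeftInverse.injective hσ
  have hstar : ∀ b : B₁, ∃ d : D₁, IsNilpotent (b - algebraMap D₁ B₁ d) := fun b => ⟨q b,
    mem_nilradical.mp (hfg.isNilpotent_iff_le_nilradical.mp hker (by
      show q (b - σ (q b)) = 0
      rw [map_sub, hσ, sub_self]))⟩
  haveI : Algebra.IsIntegral D₁ B₁ := ⟨fun b => by
    obtain ⟨d, m, hm⟩ := hstar b
    rw [show b = (b - algebraMap D₁ B₁ d) + algebraMap D₁ B₁ d by ring]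
    exact (IsIntegral.of_pow (Nat.succ_pos m) (by rw [pow_succ, hm, zero_mul]; exact isIntegral_zero)).add
      isIntegral_algebraMap⟩
  haveI : Algebra.FiniteType k B₁ := Algebra.FiniteType.trans (S := B) inferInstance inferInstance
  haveI : Algebra.FiniteType D₁ B₁ := Algebra.FiniteType.of_restrictScalars_finiteType k D₁ B₁
  haveI : Module.Finite D₁ B₁ := Algebra.IsIntegral.finite
  haveI : IsNoetherianRing D₁ := isNoetherianRing_of_surjective _ _ (q : B₁ →+* D₁) hqs
  haveI : Module.FinitePresentation D₁ B₁ := Module.finitePresentation_of_finite D₁ B₁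
  -- the free locus
  obtain ⟨h₁, hh₁, hfree⟩ : ∃ h₁ : D₁, h₁ ≠ 0 ∧ Module.Free (Localization.Away h₁) (LocalizedModule.Away h₁ B₁) := by
    obtain ⟨r, hr, hfr, -⟩ := Module.FinitePresentation.exists_free_localizedModule_powers (nonZeroDivisors D₁)
      (LocalizedModule.mkLinearMap (nonZeroDivisors D₁) B₁) (Localization (nonZeroDivisors D₁))
    exact ⟨r, nonZeroDivisors.ne_zero hr, hfr⟩
  let D₂ := Localization.Away h₁
  let B₂ := Localization (Algebra.algebraMapSubmonoid B₁ (Submonoid.powers h₁))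
  haveI : IsLocalization.Away (algebraMap D₁ B₁ h₁) B₂ := by
    have e : Algebra.algebraMapSubmonoid B₁ (Submonoid.powers h₁) = Submonoid.powers (algebraMap D₁ B₁ h₁) :=
      Submonoid.map_powers _ _
    show IsLocalization (Submonoid.powers (algebraMap D₁ B₁ h₁)) B₂
    rw [← e]
    exact Localization.isLocalization
  haveI : IsLocalizedModule (Submonoid.powers h₁) (IsScalarTower.toAlgHom D₁ B₁ B₂).toLinearMap :=
    isLocalizedModule_iff_isLocalization.mpr inferInstance
  let e₂ := (IsLocalizedModule.linearEquiv (Submonoid.powers h₁) (LocalizedModule.mkLinearMap (Submonoid.powers h₁) B₁)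
    (IsScalarTower.toAlgHom D₁ B₁ B₂).toLinearMap)
  haveI : Module.Free D₂ B₂ := Module.Free.of_equiv
    (e₂.extendScalarsOfIsLocalization (Submonoid.powers h₁) D₂)
  haveI : Module.Finite D₂ B₂ := Module.Finite.of_isLocalizedModule (Submonoid.powers h₁)
    (IsScalarTower.toAlgHom D₁ B₁ B₂).toLinearMap
  have hstar₂ := fun b => scalar_mod_nilpotent_loc h₁ hstar D₂ B₂ b
  haveI : IsDomain D₂ := IsLocalization.isDomain_localization (powers_le_nonZeroDivisors_of_noZeroDivisors hh₁)
  haveI : Algebra.FiniteType k D := inferInstance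
  haveI : Algebra.FiniteType k D₁ := Algebra.FiniteType.trans (S := D) inferInstance inferInstance
  haveI : Algebra.FiniteType k D₂ := Algebra.FiniteType.trans (S := D₁) inferInstance inferInstance
  haveI : Algebra.Etale D₁ D₂ := Algebra.Etale.of_isLocalizationAway h₁
  haveI : Algebra.Etale P D₂ := Algebra.Etale.comp P D₁ D₂
  let g₁ : B := (IsLocalization.Away.sec f (algebraMap D₁ B₁ h₁)).1
  haveI : IsLocalization.Away (f * g₁) B₂ := by
    haveI : IsLocalization.Away (algebraMap B B₁ g₁) B₂ :=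
      IsLocalization.Away.of_associated (IsLocalization.Away.associated_sec_fst f (algebraMap D₁ B₁ h₁)).symm
    exact IsLocalization.Away.mul' B₁ B₂ f g₁
  haveI : IsScalarTower k D₁ B₂ := IsScalarTower.of_algebraMap_eq fun r => by
    rw [IsScalarTower.algebraMap_apply k B₁ B₂, IsScalarTower.algebraMap_apply k D₁ B₁,
      IsScalarTower.algebraMap_apply D₁ B₁ B₂]
  haveI : IsScalarTower k D₂ B₂ := IsScalarTower.of_algebraMap_eq fun r =>
    (IsScalarTower.algebraMap_apply k D₁ B₂ r).trans <| (IsScalarTower.algebraMap_apply D₁ D₂ B₂ _).trans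
      (congrArg (algebraMap D₂ B₂) (IsScalarTower.algebraMap_apply k D₁ D₂ r).symm)
  have hinj₂ : Function.Injective (algebraMap D₂ B₂) :=
    IsLocalization.map_injective_of_injective (M := Submonoid.powers h₁) D₂ B₂ hinj₁
  obtain ⟨B', i1, i2, g, i3, y, h⟩ := exists_point_of_free (k := k) (n := n) D₂ B₂ (f * g₁) hinj₂ hstar₂
  exact ⟨B', i1, i2, g, i3, n, y, h⟩

end Groth.Agent.IndexMult
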