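import Groth.Agent.Lib.IndexMult.Point
import Groth.Agent.Lib.IndexMult.Lift

/-!
# Finite free sections cutting a component with its multiplicity
-/

set_option autoImplicit false
set_option linter.style.haveILetI false
set_option maxHeartbeats 400000

universe u

namespace Groth.Agent.IndexMult

open IsLocalRing

theorem length_congr {A B : Type u} [CommRing A] [CommRing B] (e : A ≃+* B) :
    Module.length A A = Module.length B B := by
  letI : Algebra A B := e.toRingHom.toAlgebra
  exact (LinearEquiv.length_eq (AlgEquiv.ofRingEquiv (f := e) fun x => rfl).toLinearEquiv).trans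
    (Module.length_eq_of_surjective (R := B) (S := A) (M := B) e.surjective)

/-- For a component `p` of the special fibre: a finite free quotient of a principal localisation of rank the
multiplicity of `p`. -/
theorem exists_section {R : Type u} [CommRing R] [IsDomain R] [IsDiscreteValuationRing R] [HenselianLocalRing R]
    [IsAlgClosed (ResidueField R)] {π : R} (hπ : Irreducible π) {A : Type u} [CommRing A] [Algebra R A]
    [Algebra.FiniteType R A] (htf : ∀ a : A, π • a = 0 → a = 0) (p : Ideal A) [hp : p.IsPrime]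
    (hmin : p ∈ (Ideal.span {algebraMap R A π}).minimalPrimes) :
    ∃ (a : A) (C : Type u) (_ : CommRing C) (_ : Algebra R C) (φ : Localization.Away a →ₐ[R] C),
      Function.Surjective φ ∧ Module.Finite R C ∧ Module.Free R C ∧
      Module.length (Localization.AtPrime p ⧸ Ideal.span {algebraMap A (Localization.AtPrime p) (algebraMap R A π)})
        (Localization.AtPrime p ⧸ Ideal.span {algebraMap A (Localization.AtPrime p) (algebraMap R A π)}) =
        Module.finrank R C := by
  let k := ResidueField R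
  let P := Ideal.span {algebraMap R A π}
  let B := A ⧸ P
  let ψ : k →+* B := Ideal.Quotient.lift (maximalIdeal R) (algebraMap R B) fun r hr => by
    rw [(IsDiscreteValuationRing.irreducible_iff_uniformizer π).mp hπ, Ideal.mem_span_singleton'] at hr
    obtain ⟨c, rfl⟩ := hr
    rw [map_mul, IsScalarTower.algebraMap_apply R A B π, Ideal.Quotient.algebraMap_eq,
      Ideal.Quotient.eq_zero_iff_mem.mpr (Ideal.mem_span_singleton_self _), mul_zero]
  letI : Algebra k B := ψ.toAlgebra
  haveI : IsScalarTower R k B := IsScalarTower.of_algebraMap_eq fun _ => rfl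
  haveI : Algebra.FiniteType k B := Algebra.FiniteType.of_restrictScalars_finiteType R k B
  haveI : IsNoetherianRing B := Algebra.FiniteType.isNoetherianRing k B
  let pB : Ideal B := p.map (Ideal.Quotient.mk P)
  haveI hpB : pB.IsPrime := Ideal.map_isPrime_of_surjective Ideal.Quotient.mk_surjective
    (by rw [Ideal.mk_ker]; exact hmin.1.2)
  have hpBmin : pB ∈ minimalPrimes B := by
    refine ⟨⟨hpB, bot_le⟩, fun Q ⟨hQ, _⟩ hle => ?_⟩
    have h1 := hmin.2 ⟨Ideal.IsPrime.comap (Ideal.Quotient.mk P) (hK := hQ), fun x hx => by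
      rw [Ideal.mem_comap, Ideal.Quotient.eq_zero_iff_mem.mpr hx]; exact zero_mem _⟩
      ((Ideal.comap_mono hle).trans (by
        rw [Ideal.comap_map_of_surjective _ Ideal.Quotient.mk_surjective, ← RingHom.ker_eq_comap_bot, Ideal.mk_ker]
        exact sup_le le_rfl hmin.1.2))
    exact Ideal.map_le_iff_le_comap.mpr h1
  classical
  obtain ⟨h, hhp, hh⟩ : ∃ h : B, h ∉ pB ∧ ∀ Q ∈ minimalPrimes B, Q ≠ pB → h ∈ Q := by
    have hfin := minimalPrimes.finite_of_isNoetherianRing B
    have : ∀ Q : Ideal B, ∃ z : B, z ∉ pB ∧ (Q ∈ minimalPrimes B → Q ≠ pB → z ∈ Q) := fun Q => by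
      by_cases hQ : Q ∈ minimalPrimes B ∧ Q ≠ pB
      · obtain ⟨z, hz1, hz2⟩ := SetLike.not_le_iff_exists.mp fun hle => hQ.2 (le_antisymm hle (hpBmin.2 hQ.1.1 hle))
        exact ⟨z, hz2, fun _ _ => hz1⟩
      · exact ⟨1, fun h1 => hpB.ne_top ((Ideal.eq_top_iff_one _).mpr h1), fun h1 h2 => absurd ⟨h1, h2⟩ hQ⟩
    choose z hz hzQ using this
    refine ⟨∏ Q ∈ hfin.toFinset, z Q, fun hc => ?_,
      fun Q hQ hne => Ideal.prod_mem _ (hfin.mem_toFinset.mpr hQ) (hzQ Q hQ hne)⟩
    obtain ⟨Q, -, hQ⟩ := hpB.prod_mem_iff.mp hc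
    exact hz Q hQ
  let Bh := Localization.Away h
  haveI : Algebra.FiniteType k Bh := Algebra.FiniteType.trans (S := B) inferInstance inferInstance
  have hd : Disjoint (Submonoid.powers h : Set B) (pB : Set B) :=
    Set.disjoint_left.mpr fun x ⟨j, hj⟩ hx => hhp (hpB.mem_of_pow_mem j (by subst hj; exact hx))
  let N := pB.map (algebraMap B Bh)
  haveI hNp : N.IsPrime := IsLocalization.isPrime_of_isPrime_disjoint (Submonoid.powers h) Bh pB hpB hd
  have hcomap : N.comap (algebraMap B Bh) = pB := IsLocalization.comap_map_of_isPrime_disjoint _ Bh hpB hd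
  have hnil : nilradical Bh = N := by
    refine le_antisymm (nilradical_le_prime N) ?_
    rw [nilradical_eq_sInf]
    refine le_sInf fun Q (hQ : Q.IsPrime) => ?_
    haveI := hQ.comap (algebraMap B Bh)
    obtain ⟨Q₀, hQ₀, hle⟩ := Ideal.exists_minimalPrimes_le (bot_le : (⊥ : Ideal B) ≤ Q.comap (algebraMap B Bh))
    have hhQ : h ∉ Q.comap (algebraMap B Bh) := fun hc =>
      hQ.ne_top (Ideal.eq_top_of_isUnit_mem _ hc (IsLocalization.Away.algebraMap_isUnit h))
    obtain rfl : Q₀ = pB := by
      by_contra hne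
      exact hhQ (hle (hh Q₀ hQ₀ hne))
    exact Ideal.map_le_iff_le_comap.mpr hle
  haveI hNp' : (nilradical Bh).IsPrime := hnil ▸ hNp
  obtain ⟨B', i1, i2, g, i3, n, y, hreg, hloc, i4, halg, hfin, hlen⟩ := exists_point (k := k) (B := Bh)
  -- lengths
  let S := Localization.AtPrime p
  let L := Localization.AtPrime (nilradical Bh)
  let Pp : Ideal S := Ideal.span {algebraMap A S (algebraMap R A π)}
  haveI : IsLocalization.AtPrime L ((nilradical Bh).comap (algebraMap B Bh)) :=
    IsLocalization.isLocalization_isLocalization_atPrime_isLocalization (Submonoid.powers h) L (nilradical Bh)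
  haveI : IsLocalization pB.primeCompl L := by
    have e : ((nilradical Bh).comap (algebraMap B Bh)).primeCompl = pB.primeCompl := by
      ext x
      show x ∉ (nilradical Bh).comap (algebraMap B Bh) ↔ x ∉ pB
      rw [hnil, hcomap]
    rw [← e]
    infer_instance
  have hPp : Pp = P.map (algebraMap A S) := by rw [Ideal.map_span, Set.image_singleton]
  letI : Algebra B (S ⧸ Pp) := Ideal.Quotient.algebraQuotientOfLEComap (by rw [hPp]; exact Ideal.le_comap_map)
  haveI : IsLocalization (p.primeCompl.map (Ideal.Quotient.mk P)) (S ⧸ Pp) :=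
    IsLocalization.of_surjective p.primeCompl S (Ideal.Quotient.mk P) Ideal.Quotient.mk_surjective
      (Ideal.Quotient.mk Pp) Ideal.Quotient.mk_surjective rfl (by rw [Ideal.mk_ker, Ideal.mk_ker, hPp])
  haveI : IsLocalization pB.primeCompl (S ⧸ Pp) := by
    have e : p.primeCompl.map (Ideal.Quotient.mk P) = pB.primeCompl := by
      ext x
      constructor
      · rintro ⟨z, hz, rfl⟩ hzp
        obtain ⟨w, hw, hwe⟩ := (Ideal.mem_map_iff_of_surjective _ Ideal.Quotient.mk_surjective).mp hzp
        exact hz (by have := hmin.1.2 (Ideal.Quotient.eq.mp hwe); simpa using sub_mem hw this)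
      · intro hx
        obtain ⟨z, rfl⟩ := Ideal.Quotient.mk_surjective x
        exact ⟨z, fun hz => hx (Ideal.mem_map_of_mem _ hz), rfl⟩
    rw [← e]
    infer_instance
  have hlenS : Module.length (S ⧸ Pp) (S ⧸ Pp) = Module.length L L :=
    length_congr (IsLocalization.algEquiv pB.primeCompl (S ⧸ Pp) L).toRingEquiv
  -- lift to `A`
  letI : Algebra B B' := ((algebraMap Bh B').comp (algebraMap B Bh)).toAlgebra
  haveI : IsScalarTower B Bh B' := IsScalarTower.of_algebraMap_eq fun _ => rfl
  let g₂ : B := (IsLocalization.Away.sec h g).1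
  haveI : IsLocalization.Away (algebraMap B Bh g₂) B' :=
    IsLocalization.Away.of_associated (IsLocalization.Away.associated_sec_fst h g).symm
  haveI : IsLocalization.Away (h * g₂) B' := IsLocalization.Away.mul' Bh B' h g₂
  obtain ⟨a, ha⟩ := Ideal.Quotient.mk_surjective (h * g₂)
  let Aa := Localization.Away a
  let πa : Aa := algebraMap R Aa π
  let χ : A →+* B' := (algebraMap B B').comp (Ideal.Quotient.mk P)
  have hχa : IsUnit (χ a) := by
    show IsUnit (algebraMap B B' (Ideal.Quotient.mk P a))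
    rw [ha]
    exact IsLocalization.Away.algebraMap_isUnit _
  let ρ : Aa →+* B' := IsLocalization.Away.lift (S := Aa) a hχa
  have hρ : ∀ z : A, ρ (algebraMap A Aa z) = χ z := fun z => IsLocalization.Away.lift_eq a hχa z
  have hρs : Function.Surjective ρ := fun z => by
    obtain ⟨x, ⟨_, j, rfl⟩, rfl⟩ := IsLocalization.exists_mk'_eq (Submonoid.powers (h * g₂)) z
    obtain ⟨x, rfl⟩ := Ideal.Quotient.mk_surjective x
    refine ⟨IsLocalization.mk' Aa x (⟨a ^ j, j, rfl⟩ : Submonoid.powers a), ?_⟩
    refine ((hχa.pow j).mul_left_cancel ?_)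
    rw [← map_pow, ← hρ, ← map_mul, IsLocalization.mk'_spec' Aa x (⟨a ^ j, j, rfl⟩ : Submonoid.powers a), hρ, hρ]
    show algebraMap B B' _ = algebraMap B B' _ * _
    rw [map_pow (Ideal.Quotient.mk P), ha]
    exact (IsLocalization.mk'_spec' B' _ (⟨(h * g₂) ^ j, j, rfl⟩ : Submonoid.powers (h * g₂))).symm
  have hker : RingHom.ker ρ = Ideal.span {πa} := by
    refine le_antisymm (fun z hz => ?_) ((Ideal.span_singleton_le_iff_mem _).mpr ?_)
    · obtain ⟨x, ⟨_, j, rfl⟩, rfl⟩ := IsLocalization.exists_mk'_eq (Submonoid.powers a) z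
      have h1 : χ x = 0 := by
        rw [← hρ, ← IsLocalization.mk'_spec' Aa x (⟨a ^ j, j, rfl⟩ : Submonoid.powers a), map_mul,
          RingHom.mem_ker.mp hz, mul_zero]
      obtain ⟨⟨_, i, rfl⟩, hi⟩ := (IsLocalization.map_eq_zero_iff (Submonoid.powers (h * g₂)) B'
        (Ideal.Quotient.mk P x)).mp h1
      have h2 : a ^ i * x ∈ P := by
        rw [← Ideal.Quotient.eq_zero_iff_mem, map_mul, map_pow, ha]; exact hi
      obtain ⟨c, hc⟩ := Ideal.mem_span_singleton'.mp h2
      have hu : IsUnit (algebraMap A Aa (a ^ i)) :=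
        IsLocalization.map_units Aa (⟨a ^ i, i, rfl⟩ : Submonoid.powers a)
      have hu' : IsUnit (algebraMap A Aa (a ^ j)) :=
        IsLocalization.map_units Aa (⟨a ^ j, j, rfl⟩ : Submonoid.powers a)
      refine (Ideal.unit_mul_mem_iff_mem _ hu').mp ((Ideal.unit_mul_mem_iff_mem _ hu).mp ?_)
      rw [IsLocalization.mk'_spec' Aa x (⟨a ^ j, j, rfl⟩ : Submonoid.powers a), ← map_mul, ← hc, map_mul,
        ← IsScalarTower.algebraMap_apply R A Aa]
      exact Ideal.mul_mem_left _ _ (Ideal.mem_span_singleton_self _)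
    · rw [RingHom.mem_ker]
      show ρ (algebraMap R Aa π) = 0
      rw [IsScalarTower.algebraMap_apply R A Aa, hρ]
      show algebraMap B B' (Ideal.Quotient.mk P _) = 0
      rw [Ideal.Quotient.eq_zero_iff_mem.mpr (Ideal.mem_span_singleton_self _), map_zero]
  let e : Aa ⧸ Ideal.span {πa} ≃+* B' :=
    (Ideal.quotEquivOfEq hker.symm).trans (RingHom.quotientKerEquivOfSurjective hρs)
  have he : ∀ z, e (Ideal.Quotient.mk _ z) = ρ z := fun z => rfl
  let y' : Fin n → Aa := fun i => Function.surjInv hρs (y i)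
  have hy' : ∀ i, ρ (y' i) = y i := fun i => Function.surjInv_eq hρs _
  have htfa : ∀ z : Aa, π • z = 0 → z = 0 := fun z hz => by
    obtain ⟨x, ⟨_, j, rfl⟩, rfl⟩ := IsLocalization.exists_mk'_eq (Submonoid.powers a) z
    rw [Algebra.smul_def, IsScalarTower.algebraMap_apply R A Aa, ← IsLocalization.mk'_one (M := Submonoid.powers a),
      ← IsLocalization.mk'_mul, one_mul, IsLocalization.mk'_eq_zero_iff] at hz
    obtain ⟨⟨_, i, rfl⟩, hi⟩ := hz
    rw [IsLocalization.mk'_eq_zero_iff]
    exact ⟨⟨_, i, rfl⟩, htf _ (by rw [Algebra.smul_def]; linear_combination hi)⟩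
  have hreg' : RingTheory.Sequence.IsWeaklyRegular (Aa ⧸ Ideal.span {πa})
      (List.ofFn fun i => Ideal.Quotient.mk (Ideal.span {πa}) (y' i)) := by
    rw [Vasc.isWeaklyRegular_ofFn_iff] at hreg ⊢
    have hs : ∀ s : Set (Fin n), Ideal.span (y '' s) =
        (Ideal.span ((fun i => Ideal.Quotient.mk (Ideal.span {πa}) (y' i)) '' s)).map e.toRingHom := fun s => by
      rw [Ideal.map_span, Set.image_image]
      refine congrArg Ideal.span (Set.image_congr fun i _ => ?_)
      exact ((he (y' i)).trans (hy' i)).symm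
    intro i z hz
    have h1 := hreg i (e z) (by
      rw [hs, ← hy', ← he, ← map_mul]
      exact Ideal.mem_map_of_mem e.toRingHom hz)
    rw [hs] at h1
    obtain ⟨w, hw, hwe⟩ := (Ideal.mem_map_iff_of_surjective e.toRingHom e.surjective).mp h1
    rwa [← e.injective hwe]
  let J : Ideal Aa := Ideal.span {πa} ⊔ Ideal.span (Set.range y')
  let J' : Ideal B' := Ideal.span (Set.range y)
  let τ : Aa →+* B' ⧸ J' := (Ideal.Quotient.mk J').comp ρ
  have hτ : RingHom.ker τ = J := by
    rw [← RingHom.comap_ker, Ideal.mk_ker,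
      show J' = (Ideal.span (Set.range y')).map ρ by
        rw [Ideal.map_span, ← Set.range_comp]
        exact congrArg Ideal.span (congrArg Set.range (funext fun i => (hy' i).symm)),
      Ideal.comap_map_of_surjective ρ hρs, ← RingHom.ker_eq_comap_bot, hker, sup_comm]
  let eJ : Aa ⧸ J ≃+* B' ⧸ J' := (Ideal.quotEquivOfEq hτ.symm).trans
    (RingHom.quotientKerEquivOfSurjective (Ideal.Quotient.mk_surjective.comp hρs))
  have hloc' : IsLocalRing (Aa ⧸ J) := eJ.symm.isLocalRing
  letI : Algebra R (B' ⧸ J') := ((algebraMap k (B' ⧸ J')).comp (algebraMap R k)).toAlgebra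
  haveI : IsScalarTower R k (B' ⧸ J') := IsScalarTower.of_algebraMap_eq fun _ => rfl
  let eR : (Aa ⧸ J) ≃ₐ[R] B' ⧸ J' := AlgEquiv.ofRingEquiv (f := eJ) fun r => by
    rw [IsScalarTower.algebraMap_apply R k (B' ⧸ J'), halg, IsScalarTower.algebraMap_apply R Aa (Aa ⧸ J)]
    show Ideal.Quotient.mk J' (ρ (algebraMap R Aa r)) = _
    rw [IsScalarTower.algebraMap_apply R A Aa, hρ]
    show Ideal.Quotient.mk J' (algebraMap Bh B' (algebraMap B Bh _)) = _
    rw [IsScalarTower.algebraMap_apply k B Bh, ← IsScalarTower.algebraMap_apply R k B]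
    rfl
  have hlenJ : Module.length R (Aa ⧸ J) = (Module.finrank k (B' ⧸ J') : ℕ∞) := by
    rw [eR.toLinearEquiv.length_eq,
      Module.length_eq_of_surjective (R := k) (S := R) (M := B' ⧸ J') IsLocalRing.residue_surjective,
      Module.length_eq_finrank]
  haveI : Algebra.FiniteType R Aa := Algebra.FiniteType.trans (S := A) inferInstance inferInstance
  obtain ⟨C, c1, c2, φ, hφ, hCf, hCfree, hCr⟩ := exists_finite_free hπ htfa y' hreg' hloc' _ hlenJ
  exact ⟨a, C, c1, c2, φ, hφ, hCf, hCfree, by rw [hlenS, ← hlen, hCr]⟩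

end Groth.Agent.IndexMult
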